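import Groth.Agent.CurveRigid.Affine
import Groth.Agent.AVLib.GeomInt
import Groth.Agent.MonoFibre.Connected
import Groth.Agent.OpenSubgrp.Fibres
import Groth.Agent.DSMapLib.Pts
import Groth.Prelude.Def_AlgGrp

/-!
# Maps from the affine line to semiabelian group schemes are constant
-/

set_option autoImplicit false
set_option backward.isDefEq.respectTransparency false
set_option backward.isDefEq.respectTransparency.types false
set_option linter.style.haveILetI false
set_option maxHeartbeats 1000000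
set_option synthInstance.maxHeartbeats 400000

universe u

open CategoryTheory CategoryTheory.Limits AlgebraicGeometry MonoidalCategory CartesianMonoidalCategory MonObj

noncomputable section

namespace Groth.Agent.LargeGrpLib

theorem dsPt_nat {S : Scheme.{u}} {M : Type} [AddCommGroup M] {B C : CommRingCat.{u}} (q : Spec B ⟶ S) (q' : Spec C ⟶ S) (h : B ⟶ C) (e : Spec.map h ≫ q = q')
    (χ : Multiplicative M →* B) :
    (Over.homMk (Spec.map h) e : Over.mk q' ⟶ Over.mk q) ≫ DSMapLib.dsPt M q χ = DSMapLib.dsPt M q' (h.hom.toMonoidHom.comp χ) := by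
  subst e
  letI := FixedSmooth.zAlg B
  letI := FixedSmooth.zAlg C
  exact FixedSmooth.dsPtAux_natural (ULift.{u} ℤ) M (Limits.IsTerminal.from specULiftZIsTerminal S) (B := B) (B' := C)
    q h (specULiftZIsTerminal.hom_ext _ _) (specULiftZIsTerminal.hom_ext _ _) (fun r => map_intCast h.hom r.down) χ

variable {k : Type u} [Field k] {Ω : Type u} [Field Ω] (s : Spec (CommRingCat.of Ω) ⟶ Spec (CommRingCat.of k))

/-- The affine line over an extension field. -/
abbrev ln : Over (Spec (CommRingCat.of k)) :=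
  Over.mk (Spec.map (CommRingCat.ofHom (Polynomial.C : Ω →+* Polynomial Ω)) ≫ s)

/-- The point of the line with given coordinate. -/
def at' (a : Ω) : Over.mk s ⟶ ln s :=
  Over.homMk (Spec.map (CommRingCat.ofHom (Polynomial.evalRingHom a))) (by
    show _ ≫ _ ≫ s = s
    rw [← Category.assoc, ← Spec.map_comp, ← CommRingCat.ofHom_comp,
      show (Polynomial.evalRingHom a).comp Polynomial.C = RingHom.id Ω from RingHom.ext fun c => Polynomial.eval_C,
      CommRingCat.ofHom_id, Spec.map_id, Category.id_comp])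

/-- A map from the line to an abelian variety is constant. -/
theorem av_line {A : Over (Spec (CommRingCat.of k))} [GrpObj A] [IsProper A.hom] [GeometricallyIntegral A.hom]
    (f : ln s ⟶ A) (h : at' s 0 ≫ f = 1) : f = 1 := by
  let A' := Red.bc s A
  haveI : IsProper A'.hom := inferInstanceAs (IsProper (pullback.snd A.hom s))
  haveI : GeometricallyIntegral A'.hom := inferInstanceAs (GeometricallyIntegral (pullback.snd A.hom s))
  let L := CurveRigid.affO Ω PUnit.{u + 1}
  let e : L.left ≅ (ln s).left := AffineSpace.SpecIso PUnit.{u + 1} (CommRingCat.of Ω) ≪≫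
    Scheme.Spec.mapIso (MvPolynomial.pUnitAlgEquiv.{u, u} Ω).symm.toRingEquiv.toCommRingCatIso.op
  have he : e.inv ≫ L.hom = Spec.map (CommRingCat.ofHom (Polynomial.C : Ω →+* Polynomial Ω)) := by
    simp only [e, Iso.trans_inv, Functor.mapIso_inv, Iso.op_inv, Scheme.Spec_map, Quiver.Hom.unop_op, Category.assoc]
    rw [show L.hom = 𝔸(PUnit.{u + 1}; Spec (CommRingCat.of Ω)) ↘ Spec (CommRingCat.of Ω) from rfl,
      AffineSpace.SpecIso_inv_over, ← Spec.map_comp]
    congr 1
    ext1
    exact RingHom.ext fun c => (MvPolynomial.pUnitAlgEquiv.{u, u} Ω).commutes c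
  have heh : e.hom ≫ Spec.map (CommRingCat.ofHom (Polynomial.C : Ω →+* Polynomial Ω)) = L.hom := by
    rw [← he, Iso.hom_inv_id_assoc]
  let f' : L ⟶ A' := Over.homMk (pullback.lift (e.hom ≫ f.left) L.hom (by
    rw [Category.assoc, Over.w f]
    show e.hom ≫ _ ≫ s = _
    rw [← Category.assoc, heh])) (pullback.lift_snd _ _ _)
  obtain ⟨a, ha⟩ := CurveRigid.affineSpace_const PUnit.{u + 1} f'
  have hl : f.left = Spec.map (CommRingCat.ofHom (Polynomial.C : Ω →+* Polynomial Ω)) ≫
      a.left ≫ pullback.fst A.hom s := by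
    have h1 : e.hom ≫ f.left = L.hom ≫ a.left ≫ pullback.fst A.hom s := by
      have h2 := congrArg (fun φ => φ.left ≫ pullback.fst A.hom s) ha
      simpa [f', A', L, Over.homMk] using h2
    rw [← cancel_epi e.hom, h1, ← Category.assoc e.hom, heh]
  have h0 : a.left ≫ pullback.fst A.hom s = (1 : Over.mk s ⟶ A).left := by
    rw [← h]
    show _ = Spec.map _ ≫ f.left
    rw [hl, ← Category.assoc (Spec.map _), ← Spec.map_comp, ← CommRingCat.ofHom_comp,
      show (Polynomial.evalRingHom (0 : Ω)).comp Polynomial.C = RingHom.id Ω from RingHom.ext fun c => Polynomial.eval_C,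
      CommRingCat.ofHom_id, Spec.map_id, Category.id_comp]
  apply Over.OverMorphism.ext
  rw [hl, h0, Hom.one_def, Hom.one_def]
  simp only [Over.comp_left]
  rw [← Category.assoc]
  congr 1

/-- A map from the line to a torus is constant, over a field which splits the torus. -/
theorem torus_line {T : Over (Spec (CommRingCat.of k))} [GrpObj T] {V : Scheme.{u}} (g : V ⟶ Spec (CommRingCat.of k))
    {r : ℕ} (hT : Red.IsSplitTorusWith (Fin r → ℤ) (Red.bc g T)) (v : Spec (CommRingCat.of Ω) ⟶ V) (hv : v ≫ g = s)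
    (d : ln s ⟶ T) (h : at' s 0 ≫ d = 1) : d = 1 := by
  obtain ⟨e⟩ := hT
  let e₀ : Red.bc g T ≅ Red.DS V (Fin r → ℤ) := ⟨e.hom.hom.hom, e.inv.hom.hom,
    congrArg (fun f => f.hom.hom) e.hom_inv_id, congrArg (fun f => f.hom.hom) e.inv_hom_id⟩
  haveI : IsMonHom e₀.hom := e.hom.hom.isMonHom_hom
  subst hv
  let qL : Spec (CommRingCat.of (Polynomial Ω)) ⟶ V := Spec.map (CommRingCat.ofHom Polynomial.C) ≫ v
  let dh : (Over.map g).obj (Over.mk qL) ⟶ T := Over.homMk d.left ((Over.w d).trans (Category.assoc _ _ _).symm)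
  let d' : Over.mk qL ⟶ Red.bc g T := FixedSmooth.adjEquiv g T (Over.mk qL) dh
  obtain ⟨χ, hχ⟩ := (DSMapLib.dsPt (Fin r → ℤ) qL).surjective (d' ≫ e₀.hom)
  have hev : Spec.map (CommRingCat.ofHom (Polynomial.evalRingHom (0 : Ω))) ≫ qL = v := by
    rw [show qL = Spec.map (CommRingCat.ofHom Polynomial.C) ≫ v from rfl, ← Category.assoc, ← Spec.map_comp,
      ← CommRingCat.ofHom_comp,
      show (Polynomial.evalRingHom (0 : Ω)).comp Polynomial.C = RingHom.id Ω from RingHom.ext fun c => Polynomial.eval_C,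
      CommRingCat.ofHom_id, Spec.map_id, Category.id_comp]
  have hd0 : (Over.homMk (Spec.map (CommRingCat.ofHom (Polynomial.evalRingHom (0 : Ω)))) hev : Over.mk v ⟶ Over.mk qL) ≫ d' = 1 := by
    show _ ≫ (Over.mapPullbackAdj g).homEquiv _ _ dh = 1
    rw [← Adjunction.homEquiv_naturality_left]
    refine Eq.trans (congrArg (FixedSmooth.adjEquiv g T (Over.mk v)) (a₂ := 1) ?_) (map_one _)
    refine Over.OverMorphism.ext ((congrArg CommaMorphism.left h).trans ?_)
    simp [Hom.one_def]
  have h1 : (Polynomial.evalRingHom (0 : Ω)).toMonoidHom.comp χ = 1 := by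
    refine (DSMapLib.dsPt (B := CommRingCat.of Ω) (Fin r → ℤ) v).injective ?_
    rw [map_one]
    refine (dsPt_nat qL v (CommRingCat.ofHom (Polynomial.evalRingHom (0 : Ω))) hev χ).symm.trans ?_
    rw [hχ, ← Category.assoc, hd0, MonObj.one_comp]
  have hχ1 : χ = 1 := MonoidHom.ext fun m => by
    obtain ⟨c, hc, hce⟩ := Polynomial.isUnit_iff.1 (IsUnit.map χ (Group.isUnit m))
    have h2 : (χ m).eval (0 : Ω) = 1 := DFunLike.congr_fun h1 m
    have h3 : (Polynomial.C c).eval (0 : Ω) = 1 := hce.symm ▸ h2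
    rw [Polynomial.eval_C] at h3
    rw [MonoidHom.one_apply, ← hce, h3, map_one]
  rw [hχ1, map_one] at hχ
  have hd' : d' = 1 := by
    rw [← cancel_mono e₀.hom, MonObj.one_comp]
    exact hχ.symm
  have hdh : dh = 1 := (FixedSmooth.adjEquiv g T (Over.mk qL)).injective (hd'.trans (map_one _).symm)
  refine Over.OverMorphism.ext ((congrArg CommaMorphism.left hdh).trans ?_)
  simp [Hom.one_def, qL]

/-- A map from the line to a group with semiabelian neutral component is constant, over a field splitting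
the torus. -/
theorem semiabelian_line {G : Over (Spec (CommRingCat.of k))} [GrpObj G] [LocallyOfFiniteType G.hom]
    {G0 : Over (Spec (CommRingCat.of k))} [GrpObj G0] (e : G0 ⟶ G) [IsMonHom e] [IsOpenImmersion e.left]
    [ConnectedSpace ↥G0.left]
    {T : Over (Spec (CommRingCat.of k))} [GrpObj T] (i : T ⟶ G0) [IsMonHom i] [IsClosedImmersion i.left]
    {A : Over (Spec (CommRingCat.of k))} [GrpObj A] [IsProper A.hom] [GeometricallyIntegral A.hom]
    (q : G0 ⟶ A) [IsMonHom q] (hker : AlgGrp.IsKernel i q)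
    {V : Scheme.{u}} (g : V ⟶ Spec (CommRingCat.of k))
    {r : ℕ} (hT : Red.IsSplitTorusWith (Fin r → ℤ) (Red.bc g T)) (v : Spec (CommRingCat.of Ω) ⟶ V) (hv : v ≫ g = s)
    (h : ln s ⟶ G) (h0 : at' s 0 ≫ h = 1) : h = 1 := by
  haveI : Subsingleton ↥(Spec (CommRingCat.of k)) := inferInstanceAs (Subsingleton (PrimeSpectrum k))
  haveI : PreconnectedSpace ↥(ln s).left :=
    inferInstanceAs (PreconnectedSpace (PrimeSpectrum (Polynomial Ω)))
  let p : ↥(𝟙_ (Over (Spec (CommRingCat.of k)))).left := s (IsLocalRing.closedPoint Ω)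
  have hmem : ∀ x, h.left x ∈ Set.range e.left := by
    intro x
    rw [OpenSubgrp.range_eq_connectedComponent e p]
    refine (isPreconnected_range h.left.continuous).subset_connectedComponent
      ⟨(at' s 0).left (IsLocalRing.closedPoint Ω), ?_⟩ ⟨x, rfl⟩
    have h1 := congrArg CommaMorphism.left h0
    rw [← Scheme.Hom.comp_apply, ← Over.comp_left, h0, Hom.one_def, Over.comp_left, Scheme.Hom.comp_apply]
    exact congrArg _ (Subsingleton.elim (α := PrimeSpectrum k) _ _)
  let h₀ : ln s ⟶ G0 := Over.homMk (IsOpenImmersion.lift e.left h.left fun y ⟨x, hx⟩ => hx ▸ hmem x) (by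
    rw [← Over.w e, ← Category.assoc, IsOpenImmersion.lift_fac, Over.w h])
  have he : h₀ ≫ e = h := Over.OverMorphism.ext (IsOpenImmersion.lift_fac _ _ _)
  haveI : Mono e := (Over.forget _).mono_of_mono_map (inferInstanceAs (Mono e.left))
  have h00 : at' s 0 ≫ h₀ = 1 := by rw [← cancel_mono e, Category.assoc, he, h0, MonObj.one_comp]
  have hq : h₀ ≫ q = 1 := av_line s _ (by rw [← Category.assoc, h00, MonObj.one_comp])
  let d : ln s ⟶ T := IsPullback.lift hker h₀ (toUnit _) (by rw [hq, Hom.one_def])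
  have hd : d ≫ i = h₀ := IsPullback.lift_fst hker _ _ _
  haveI : Mono i := (Over.forget _).mono_of_mono_map (inferInstanceAs (Mono i.left))
  have hd0 : at' s 0 ≫ d = 1 := by rw [← cancel_mono i, Category.assoc, hd, h00, MonObj.one_comp]
  rw [← he, ← hd, torus_line s g hT v hv d hd0, MonObj.one_comp, MonObj.one_comp]

end Groth.Agent.LargeGrpLib
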