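import Groth.Agent.LargeGrpLib.Line
import Groth.Agent.ASp.PropDescend
import Groth.Agent.GrpQuotLib.Descend

/-!
# Maps from products with affine spaces to semiabelian group schemes
-/

set_option autoImplicit false
set_option backward.isDefEq.respectTransparency false
set_option backward.isDefEq.respectTransparency.types false
set_option linter.style.haveILetI false
set_option maxHeartbeats 1000000
set_option synthInstance.maxHeartbeats 400000

universe u

open CategoryTheory CategoryTheory.Limits AlgebraicGeometry MonoidalCategory CartesianMonoidalCategory MonObj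

noncomputable section

namespace Groth.Agent.LargeGrpLib

variable {k : Type u} [Field k]

/-- Affine space as the spectrum of a polynomial ring. -/
abbrev aff (k : Type u) [Field k] (n : ℕ) : Over (Spec (CommRingCat.of k)) :=
  Over.mk (Spec.map (CommRingCat.ofHom (algebraMap k (MvPolynomial (Fin n) k))))

/-- The origin of affine space. -/
def origin (k : Type u) [Field k] (n : ℕ) : 𝟙_ (Over (Spec (CommRingCat.of k))) ⟶ aff k n :=
  Over.homMk (Spec.map (CommRingCat.ofHom (MvPolynomial.aeval (fun _ : Fin n => (0 : k))).toRingHom)) (by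
    show Spec.map _ ≫ Spec.map _ = 𝟙 _
    rw [← Spec.map_comp, ← Spec.map_id]
    congr 1
    ext1
    exact RingHom.ext fun c => (MvPolynomial.aeval (fun _ : Fin n => (0 : k))).commutes c)

theorem smooth_aff (n : ℕ) : Smooth (aff k n).hom :=
  (HasRingHomProperty.Spec_iff (P := @Smooth)).2 (RingHom.smooth_algebraMap.2 ⟨inferInstance, inferInstance⟩)

/-- A morphism from a product with affine space to a semiabelian-like group factors through the projection. -/
theorem eq_fst_comp {X : Over (Spec (CommRingCat.of k))} [IsReduced X.left]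
    {G : Over (Spec (CommRingCat.of k))} [GrpObj G] [IsSeparated G.hom] [LocallyOfFiniteType G.hom]
    {G0 : Over (Spec (CommRingCat.of k))} [GrpObj G0] (e : G0 ⟶ G) [IsMonHom e] [IsOpenImmersion e.left]
    [ConnectedSpace ↥G0.left]
    {T : Over (Spec (CommRingCat.of k))} [GrpObj T] (i : T ⟶ G0) [IsMonHom i] [IsClosedImmersion i.left]
    (hT : Red.IsTorus T)
    {A : Over (Spec (CommRingCat.of k))} [GrpObj A] [IsProper A.hom] [Smooth A.hom] [ConnectedSpace ↥A.left]
    (q : G0 ⟶ A) [IsMonHom q] (hker : AlgGrp.IsKernel i q) (n : ℕ) (φ : X ⊗ aff k n ⟶ G) :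
    φ = fst X (aff k n) ≫ lift (𝟙 X) (toUnit X ≫ origin k n) ≫ φ := by
  haveI : GeometricallyConnected A.hom :=
    MonoFibre.geometricallyConnected_of_section A.hom η[A].left (Over.w η[A])
  haveI : GeometricallyIntegral A.hom := AVLib.geometricallyIntegral_of_smooth A
  haveI := smooth_aff (k := k) n
  haveI : Smooth (fst X (aff k n)).left := MorphismProperty.pullback_fst X.hom (aff k n).hom inferInstance
  haveI : IsReduced (X ⊗ aff k n).left := ASp.isReduced_of_smooth (fst X (aff k n)).left
  obtain ⟨S', f, hf, hfs, -, hloc⟩ := hT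
  haveI := hfs
  obtain ⟨s', -⟩ := f.surjective (IsLocalRing.closedPoint k)
  obtain ⟨U, hs', r, hsplit⟩ := hloc s'
  let g : (U : Scheme.{u}) ⟶ Spec (CommRingCat.of k) := U.ι ≫ f
  let δ : X ⊗ aff k n ⟶ G := φ * (fst X (aff k n) ≫ lift (𝟙 X) (toUnit X ≫ origin k n) ≫ φ)⁻¹
  suffices hδ : δ = 1 from mul_inv_eq_one.1 hδ
  refine Over.OverMorphism.ext (ext_of_fromSpecResidueField_eq _ _ G.hom Set.univ dense_univ (fun x _ => ?_)
    ((Over.w _).trans (Over.w _).symm))
  let c : Spec ((X ⊗ aff k n).left.residueField x) ⟶ Spec (CommRingCat.of k) :=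
    (X ⊗ aff k n).left.fromSpecResidueField x ≫ (X ⊗ aff k n).hom
  obtain ⟨w, -, -⟩ := Scheme.Pullback.exists_preimage_pullback (f := c) (g := g) (IsLocalRing.closedPoint _) ⟨s', hs'⟩
    (Subsingleton.elim (α := PrimeSpectrum k) _ _)
  let Ω := (pullback c g).residueField w
  let m : Spec (CommRingCat.of Ω) ⟶ Spec ((X ⊗ aff k n).left.residueField x) :=
    (pullback c g).fromSpecResidueField w ≫ pullback.fst c g
  let v : Spec (CommRingCat.of Ω) ⟶ U := (pullback c g).fromSpecResidueField w ≫ pullback.snd c g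
  let s : Spec (CommRingCat.of Ω) ⟶ Spec (CommRingCat.of k) := m ≫ c
  have hv : v ≫ g = s := by simp [v, s, m, pullback.condition]
  obtain ⟨M, hM⟩ : ∃ M, Spec.map M = m := ⟨_, Spec.map_preimage m⟩
  haveI : Flat m := by
    rw [← hM]
    refine (HasRingHomProperty.Spec_iff (P := @Flat)).2 ?_
    letI := M.hom.toAlgebra
    exact RingHom.flat_algebraMap_iff.2 inferInstance
  haveI : Surjective m := ⟨fun z => ⟨IsLocalRing.closedPoint Ω,
    Subsingleton.elim (α := PrimeSpectrum ((X ⊗ aff k n).left.residueField x)) _ _⟩⟩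
  haveI := SchDesc.IsFpqc.of_quasiCompact m
  rw [← cancel_epi m]
  let pt : Over.mk s ⟶ X ⊗ aff k n := Over.homMk (m ≫ (X ⊗ aff k n).left.fromSpecResidueField x) (Category.assoc _ _ _)
  suffices hpt : pt ≫ δ = 1 by
    have h1 : (pt ≫ δ).left = (pt ≫ (1 : X ⊗ aff k n ⟶ G)).left := by rw [hpt, MonObj.comp_one]
    exact (Category.assoc _ _ _).symm.trans (h1.trans (Category.assoc _ _ _))
  obtain ⟨σ, hσ⟩ : ∃ σ, Spec.map σ = s := ⟨_, Spec.map_preimage s⟩
  obtain ⟨ρ, hρ⟩ : ∃ ρ, Spec.map ρ = (pt ≫ snd X (aff k n)).left := ⟨_, Spec.map_preimage _⟩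
  have hρσ : ρ.hom.comp (algebraMap k (MvPolynomial (Fin n) k)) = σ.hom := by
    have h1 : Spec.map (CommRingCat.ofHom (algebraMap k (MvPolynomial (Fin n) k)) ≫ ρ) = Spec.map σ := by
      rw [Spec.map_comp, hρ, hσ]
      exact Over.w (pt ≫ snd X (aff k n))
    exact congrArg CommRingCat.Hom.hom (Spec.map_injective h1)
  let lam : MvPolynomial (Fin n) k →+* Polynomial Ω :=
    MvPolynomial.eval₂Hom (Polynomial.C.comp σ.hom) fun i => Polynomial.C (ρ.hom (MvPolynomial.X i)) * Polynomial.X
  let line : ln s ⟶ aff k n := Over.homMk (Spec.map (CommRingCat.ofHom lam)) (by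
    show Spec.map _ ≫ Spec.map _ = Spec.map _ ≫ s
    rw [← hσ, ← Spec.map_comp, ← Spec.map_comp]
    congr 1
    ext1
    exact RingHom.ext fun c => MvPolynomial.eval₂Hom_C _ _ c)
  let base : ln s ⟶ Over.mk s := Over.homMk (Spec.map (CommRingCat.ofHom Polynomial.C)) rfl
  let l : ln s ⟶ X ⊗ aff k n := lift (base ≫ pt ≫ fst X (aff k n)) line
  have hb : ∀ a, at' s a ≫ base = 𝟙 _ := fun a => by
    refine Over.OverMorphism.ext ?_
    show Spec.map _ ≫ Spec.map _ = 𝟙 _
    rw [← Spec.map_comp, ← CommRingCat.ofHom_comp,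
      show (Polynomial.evalRingHom a).comp Polynomial.C = RingHom.id Ω from RingHom.ext fun c => Polynomial.eval_C,
      CommRingCat.ofHom_id, Spec.map_id]
  have hl1 : at' s 1 ≫ l = pt := by
    refine CartesianMonoidalCategory.hom_ext _ _ ?_ ?_
    · rw [Category.assoc, lift_fst, ← Category.assoc, hb, Category.id_comp]
    · rw [Category.assoc, lift_snd]
      refine Over.OverMorphism.ext ?_
      rw [← hρ]
      show Spec.map _ ≫ Spec.map _ = _
      rw [← Spec.map_comp]
      congr 1
      ext1
      refine MvPolynomial.ringHom_ext (fun c => ?_) fun i => ?_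
      · show (lam (MvPolynomial.C c)).eval 1 = ρ.hom (MvPolynomial.C c)
        rw [show lam (MvPolynomial.C c) = Polynomial.C (σ.hom c) from MvPolynomial.eval₂Hom_C _ _ c, Polynomial.eval_C]
        exact (RingHom.congr_fun hρσ c).symm
      · show (lam (MvPolynomial.X i)).eval 1 = ρ.hom (MvPolynomial.X i)
        rw [show lam (MvPolynomial.X i) = _ from MvPolynomial.eval₂Hom_X' _ _ i]
        simp
  have hl0 : at' s 0 ≫ l ≫ δ = 1 := by
    have h0 : at' s 0 ≫ l = (at' s 0 ≫ l ≫ fst X (aff k n)) ≫ lift (𝟙 X) (toUnit X ≫ origin k n) := by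
      refine CartesianMonoidalCategory.hom_ext _ _ ?_ ?_
      · simp only [Category.assoc, lift_fst, Category.comp_id]
      · simp only [Category.assoc, lift_snd, l]
        refine Eq.trans (?_ : _ = toUnit (Over.mk s) ≫ origin k n) ?_
        · refine Over.OverMorphism.ext ?_
          show Spec.map _ ≫ Spec.map _ = s ≫ Spec.map _
          rw [← hσ, ← Spec.map_comp, ← Spec.map_comp]
          congr 1
          ext1
          refine MvPolynomial.ringHom_ext (fun c => ?_) fun i => ?_
          · show (lam (MvPolynomial.C c)).eval 0 = σ.hom (MvPolynomial.aeval (fun _ => (0 : k)) (MvPolynomial.C c))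
            rw [show lam (MvPolynomial.C c) = Polynomial.C (σ.hom c) from MvPolynomial.eval₂Hom_C _ _ c,
              Polynomial.eval_C, MvPolynomial.aeval_C]
            rfl
          · show (lam (MvPolynomial.X i)).eval 0 = σ.hom (MvPolynomial.aeval (fun _ => (0 : k)) (MvPolynomial.X i))
            rw [show lam (MvPolynomial.X i) = _ from MvPolynomial.eval₂Hom_X' _ _ i, MvPolynomial.aeval_X, map_zero]
            simp
        · rw [toUnit_unique (toUnit (Over.mk s))
            (at' s 0 ≫ lift (base ≫ pt ≫ fst X (aff k n)) line ≫ fst X (aff k n) ≫ toUnit X)]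
          simp only [Category.assoc]
    rw [MonObj.comp_mul, GrpObj.comp_inv, MonObj.comp_mul, GrpObj.comp_inv, mul_inv_eq_one, ← Category.assoc, h0]
    simp only [Category.assoc, lift_fst, lift_fst_assoc, l]
  have hline := semiabelian_line s e i q hker g hsplit v hv (l ≫ δ) hl0
  rw [← hl1, Category.assoc, hline, MonObj.comp_one]

end Groth.Agent.LargeGrpLib
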